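import Mathlib
import Cfsg.Agent.Spor.Comp.Model

/-! Generated by tools/pg: partial coset enumeration m693 -/

set_option autoImplicit false
set_option maxRecDepth 100000
set_option linter.unusedVariables false
set_option exponentiation.threshold 100000

namespace Cfsg.Agent.Spor.Y5

open Cfsg.Agent.Spor

noncomputable def m693_rels : LT :=
(.node (.node (.node (.node (.node (.node (.leaf [])
 (.leaf [nat_lit 4,nat_lit 6,nat_lit 4,nat_lit 6])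
) (.leaf [nat_lit 1,nat_lit 2,nat_lit 1,nat_lit 2,nat_lit 1,nat_lit 2])
) (.node (.leaf [nat_lit 7,nat_lit 7])
 (.leaf [nat_lit 2,nat_lit 5,nat_lit 2,nat_lit 5,nat_lit 2,nat_lit 5])
)) (.node (.node (.node (.leaf [nat_lit 3,nat_lit 3])
 (.leaf [nat_lit 6,nat_lit 7,nat_lit 6,nat_lit 7,nat_lit 6,nat_lit 7])
) (.leaf [nat_lit 1,nat_lit 6,nat_lit 1,nat_lit 6])
) (.node (.leaf [nat_lit 0,nat_lit 4,nat_lit 0,nat_lit 4,nat_lit 0,nat_lit 4])
 (.leaf [nat_lit 3,nat_lit 5,nat_lit 3,nat_lit 5])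
))) (.node (.node (.node (.node (.leaf [nat_lit 1,nat_lit 1])
 (.leaf [nat_lit 5,nat_lit 6,nat_lit 5,nat_lit 6])
) (.leaf [nat_lit 1,nat_lit 4,nat_lit 1,nat_lit 4])
) (.node (.leaf [nat_lit 0,nat_lit 2,nat_lit 0,nat_lit 2])
 (.leaf [nat_lit 2,nat_lit 7,nat_lit 2,nat_lit 7])
)) (.node (.node (.leaf [nat_lit 5,nat_lit 5])
 (.leaf [nat_lit 2,nat_lit 3,nat_lit 2,nat_lit 3,nat_lit 2,nat_lit 3])
) (.node (.leaf [nat_lit 0,nat_lit 6,nat_lit 0,nat_lit 6])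
 (.leaf [nat_lit 3,nat_lit 7,nat_lit 3,nat_lit 7,nat_lit 3,nat_lit 7])
)))) (.node (.node (.node (.node (.node (.leaf [nat_lit 0,nat_lit 0])
 (.leaf [nat_lit 4,nat_lit 7,nat_lit 4,nat_lit 7,nat_lit 4,nat_lit 7])
) (.leaf [nat_lit 1,nat_lit 3,nat_lit 1,nat_lit 3])
) (.node (.leaf [nat_lit 0,nat_lit 1,nat_lit 0,nat_lit 1,nat_lit 0,nat_lit 1])
 (.leaf [nat_lit 2,nat_lit 6,nat_lit 2,nat_lit 6])
)) (.node (.node (.node (.leaf [nat_lit 4,nat_lit 4])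
 (.leaf [nat_lit 0,nat_lit 3,nat_lit 1,nat_lit 7,nat_lit 2,nat_lit 4,nat_lit 0,nat_lit 3,nat_lit 1,nat_lit 7,nat_lit 2,nat_lit 4,nat_lit 0,nat_lit 3,nat_lit 1,nat_lit 7,nat_lit 2,nat_lit 4,nat_lit 0,nat_lit 3,nat_lit 1,nat_lit 7,nat_lit 2,nat_lit 4])
) (.leaf [nat_lit 1,nat_lit 7,nat_lit 1,nat_lit 7])
) (.node (.leaf [nat_lit 0,nat_lit 5,nat_lit 0,nat_lit 5])
 (.leaf [nat_lit 3,nat_lit 6,nat_lit 3,nat_lit 6])
))) (.node (.node (.node (.node (.leaf [nat_lit 2,nat_lit 2])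
 (.leaf [nat_lit 5,nat_lit 7,nat_lit 5,nat_lit 7])
) (.leaf [nat_lit 1,nat_lit 5,nat_lit 1,nat_lit 5])
) (.node (.leaf [nat_lit 0,nat_lit 3,nat_lit 0,nat_lit 3])
 (.leaf [nat_lit 3,nat_lit 4,nat_lit 3,nat_lit 4])
)) (.node (.node (.leaf [nat_lit 6,nat_lit 6])
 (.leaf [nat_lit 2,nat_lit 4,nat_lit 2,nat_lit 4])
) (.node (.leaf [nat_lit 0,nat_lit 7,nat_lit 0,nat_lit 7])
 (.leaf [nat_lit 4,nat_lit 5,nat_lit 4,nat_lit 5])
)))))
noncomputable def m693_hws : LT :=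
(.node (.leaf [])
 (.leaf [nat_lit 7,nat_lit 4,nat_lit 3,nat_lit 7,nat_lit 6,nat_lit 7,nat_lit 3,nat_lit 4,nat_lit 7])
)
noncomputable def m693_inv : ℕ → ℕ := getP (nat_lit 8) (nat_lit 255) (nat_lit 0x706050403020100)

noncomputable def m693_t : BT :=
(.node (.node (.node (.node (.leaf (nat_lit 0x7ff80a9104ea2221dd8003df00007ae6410ecd801ffe010438742087a6e00fff00021ad58083db8008675e00fff0001ffe0004302c0006be200fff02921691803ffc0a48564e00fff0001ffe052427640005ad200fff0000120b803ffc0007ff81490825001ffe05241e1c5483a3600fff0001ffe0444199801047c200fff0001ffe0003ffc0007ff8000fff0001ffe02a41249007ff80c10433801ffe02a40dcc007ff800002d1001ffe00000983000108400fff008203228080b0a0101290020201c02010081c0000))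
 (.leaf (nat_lit 0x7ff8000fff0001ffe0003ffc0007ff8000fff0001ffe0003ffc0007ff8000fff0001ffe0003ffc0007ff8000fff0001ffe0003ffc0007ff8000fff0001ffe0003ffc0007ff8000fff0001ffe0003ffc0007ff8000fff0001ffe0003ffc0007ff8000fff0001ffe0003ffc0007ff8000fff0001ffe0003ffc0007ff8000fff0001ffe0003ffc0007ff8000fff0001ffe0003ffc0007ff8000fff0001ffe0003ffc0007ff8000fff0001ffe0003ffc0007ff8000fff0001ffe0003ffc0007ff8000fff0001ffe0003ffc0))
) (.leaf (nat_lit 0x85eab1105e801ffe0003ffc000077df890edc404215d92438b4007ff8000fff0001ffe000034a8010776e00fff0001ffe05e430ec007ff8000fff0001ffe00083470007ff8000fff0001ffe05442820a884cbe00fff0001ffe000028640004d47510857801ffe05441e5c007ff8000fff0001ffe04a41a13648312400fff0001ffe0003ffc0007ff8000fff0001ffe02c41290007ff80c90413801ffe02c40e09007ff8000fff0001ffe01a40a08348120e00fff00920361803ffc00000e0a0000d04040181003ffc0))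
) (.node (.leaf (nat_lit 0x7ff8000103d232203c9843e33148786000fff0001ffe000840ba0007cf000fff00221b188003c77088685000fff0001ffe0044306c007ff8000fff026216f4803ffc0988573800fff002214ad4c427a4007ff8000fff00c21230803ffc0988453f310834401ffe0003ffc0000399c000a696620da6c641a9874831ae00fff0001ffe0003ffc0007ff80e90504800108f0001208007ff80020726c01ffe00000d85000190800fff0000054180811d0308110e00fff000406a60080c4b01014922900f0822014081c0080))
 (.leaf (nat_lit 0x7ff8099106e801ffe0003ffc0007ff8000fff0001ffe06043974007ff8000fff0001ffe0003ffc0007ff80000ca9b0218f6ce4312c007ff80000ba88001670803ffc000055b6020c9ba7214f280027180004c2e020b9a8041654800235300043a40008140000f878001dce010554f3907168000d8600826e40104bc70105c59e20aea80014c90104640020867c000984008201e0103dba02076700007828081ad94c819968902e28040a4a00812d1007ff8000fff000407668180584007ff8000fff000403e301c0140))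
)) (.node (.node (.node (.leaf (nat_lit 0x7ff8141108e8721fba003ffc0007ff8000fff0001ffe00003fb9007ff80090dbb001ffe0003ffc004867de00fff0001ffe0003ffc0007ff81610bb92c216d4803ffc0b0856ce00fff0001ffe0003ffc0007ff817109662d21270803ffc0b08442800fff02c20fa8803ffc0a083ab600fff0001ffe0003ffc0000301800fff00000ac5800225f007ff800004f2401ffe0003ffc00002290000401c01ffe000817d70102aaa00fff000409c9008110f0101f9c00fff00720342803ffc01c809862100e0812012081c0040))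
 (.leaf (nat_lit 0x4826a00802d00100790020030004025e00803bc0100f7001c0ec00381d600707a800e0f4801c12800383ce007069800c07280181e400303c6006068800c0d080181dc0030336006056c00a0ec8014198002832e005055c00a00b80181930030324006064000c0c7801418e002811c00407340080c6001014c0020098006052c00c02580141890028292005012400a0c400140880028090004011c0060c2800c0850028108005001000804180100030018004002060400406080101c3001818400204040020e00000000))
) (.leaf (nat_lit 0x188866e00fff00a21ff99c43eb800086f600fff00321d3794438ed0008072190dcac01ffe00c434f0007ff81590cb9c001c9a06430a5007ff81590bc8c01ffe00642c68007ff80000a96c01ffe05642899007ff80000955c01ffe0003ffc0007ff8000fff0001ffe05641e9c010544c00fff0001ffe0000194c0104a440005b2c01ffe0003ffc0007ff8000fff0001ffe0003ffc0007ff80d10423801ffe000819180102d2c00fff00040a29803ffc0388118e00fff00a203a2803ffc0007ff80310100832016081c0100))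
) (.node (.leaf (nat_lit 0x7ff8081109e8001f99003ffc0c887962000ebbc01ffe0000382c0006f56020fbe4001e7b803ffc0010756c00fff000018d280837f40106ee600fff01721714803ffc0007ff8000fff000418b6ae427e4007ff8000fff00f21250803ffc0007ff8000fff01720fce0001fdd007ff8000fff01720dccc8419d86c830ae00fff0001ffe02e41514007ff8000fff0001ffe0003ffc06c8231c00fff017207a32040e8c007ff8000fff010205649e409c7007ff800003e34000300803ffc00000904020110c0402e281c00c0))
 (.leaf (nat_lit 0x7ff80a1107e801ffe0003ffc0007ff8000fff00001d1716439b4007ff80000daa8001ab4803ffc000066ce020e7d4b219168002fe4007ff80020d9c8041a988002c1c010665e00fff0000148c8082fac0105ed600fff0001ffe038423a070845be00fff0001ffe00082be8007ff800007034041472c241a58007ff810905d4df20b09003ffc00002f2c0005955c209a8803ffc0007ff8000fff00040ded2840e4c5081a129102f2001ffe00000c0a007ff8000fff00b203c280005430100a0800fff000000e00080181))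
)))

noncomputable def m693_rules : LT :=
(.node (.node (.node (.node (.node (.node (.leaf [nat_lit 15,nat_lit 1,nat_lit 1,nat_lit 0,nat_lit 7,nat_lit 0,nat_lit 7])
 (.leaf [nat_lit 34,nat_lit 2,nat_lit 1,nat_lit 6,nat_lit 5,nat_lit 6,nat_lit 5])
) (.node (.leaf [nat_lit 22,nat_lit 4,nat_lit 1,nat_lit 3,nat_lit 2,nat_lit 3,nat_lit 2,nat_lit 3,nat_lit 2])
 (.leaf [nat_lit 29,nat_lit 2,nat_lit 1,nat_lit 6,nat_lit 3,nat_lit 6,nat_lit 3])
)) (.node (.node (.leaf [nat_lit 11,nat_lit 1,nat_lit 1,nat_lit 0,nat_lit 3,nat_lit 0,nat_lit 3])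
 (.leaf [nat_lit 16,nat_lit 3,nat_lit 1,nat_lit 1,nat_lit 2,nat_lit 1,nat_lit 2,nat_lit 1,nat_lit 2])
) (.leaf [nat_lit 9,nat_lit 3,nat_lit 1,nat_lit 0,nat_lit 1,nat_lit 0,nat_lit 1,nat_lit 0,nat_lit 1])
)) (.node (.node (.node (.leaf [nat_lit 18,nat_lit 1,nat_lit 1,nat_lit 1,nat_lit 4,nat_lit 1,nat_lit 4])
 (.leaf [nat_lit 28,nat_lit 1,nat_lit 1,nat_lit 3,nat_lit 5,nat_lit 3,nat_lit 5])
) (.leaf [nat_lit 26,nat_lit 2,nat_lit 1,nat_lit 7,nat_lit 2,nat_lit 7,nat_lit 2])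
) (.node (.node (.leaf [nat_lit 10,nat_lit 2,nat_lit 1,nat_lit 2,nat_lit 0,nat_lit 2,nat_lit 0])
 (.leaf [nat_lit 20,nat_lit 1,nat_lit 1,nat_lit 1,nat_lit 6,nat_lit 1,nat_lit 6])
) (.leaf [nat_lit 36,nat_lit 4,nat_lit 1,nat_lit 7,nat_lit 6,nat_lit 7,nat_lit 6,nat_lit 7,nat_lit 6])
))) (.node (.node (.node (.node (.leaf [nat_lit 26,nat_lit 1,nat_lit 1,nat_lit 2,nat_lit 7,nat_lit 2,nat_lit 7])
 (.leaf [nat_lit 13,nat_lit 1,nat_lit 1,nat_lit 0,nat_lit 5,nat_lit 0,nat_lit 5])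
) (.node (.leaf [nat_lit 15,nat_lit 2,nat_lit 1,nat_lit 7,nat_lit 0,nat_lit 7,nat_lit 0])
 (.leaf [nat_lit 27,nat_lit 1,nat_lit 1,nat_lit 3,nat_lit 4,nat_lit 3,nat_lit 4])
)) (.node (.node (.leaf [nat_lit 28,nat_lit 2,nat_lit 1,nat_lit 5,nat_lit 3,nat_lit 5,nat_lit 3])
 (.leaf [nat_lit 32,nat_lit 1,nat_lit 1,nat_lit 4,nat_lit 6,nat_lit 4,nat_lit 6])
) (.leaf [nat_lit 19,nat_lit 2,nat_lit 1,nat_lit 5,nat_lit 1,nat_lit 5,nat_lit 1])
)) (.node (.node (.node (.leaf [nat_lit 31,nat_lit 2,nat_lit 1,nat_lit 5,nat_lit 4,nat_lit 5,nat_lit 4])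
 (.leaf [nat_lit 25,nat_lit 1,nat_lit 1,nat_lit 2,nat_lit 6,nat_lit 2,nat_lit 6])
) (.leaf [nat_lit 23,nat_lit 2,nat_lit 1,nat_lit 4,nat_lit 2,nat_lit 4,nat_lit 2])
) (.node (.node (.leaf [nat_lit 13,nat_lit 2,nat_lit 1,nat_lit 5,nat_lit 0,nat_lit 5,nat_lit 0])
 (.leaf [nat_lit 19,nat_lit 1,nat_lit 1,nat_lit 1,nat_lit 5,nat_lit 1,nat_lit 5])
) (.leaf [nat_lit 20,nat_lit 2,nat_lit 1,nat_lit 6,nat_lit 1,nat_lit 6,nat_lit 1])
)))) (.node (.node (.node (.node (.node (.leaf [nat_lit 21,nat_lit 1,nat_lit 1,nat_lit 1,nat_lit 7,nat_lit 1,nat_lit 7])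
 (.leaf [nat_lit 35,nat_lit 2,nat_lit 1,nat_lit 7,nat_lit 5,nat_lit 7,nat_lit 5])
) (.node (.leaf [nat_lit 14,nat_lit 2,nat_lit 1,nat_lit 6,nat_lit 0,nat_lit 6,nat_lit 0])
 (.leaf [nat_lit 37,nat_lit 17,nat_lit 0,nat_lit 4,nat_lit 0,nat_lit 3,nat_lit 1,nat_lit 7,nat_lit 2,nat_lit 4,nat_lit 0,nat_lit 3,nat_lit 1,nat_lit 7,nat_lit 2,nat_lit 4,nat_lit 0,nat_lit 3,nat_lit 1,nat_lit 7,nat_lit 2,nat_lit 4,nat_lit 0,nat_lit 3,nat_lit 1,nat_lit 7,nat_lit 2])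
)) (.node (.node (.leaf [nat_lit 27,nat_lit 2,nat_lit 1,nat_lit 4,nat_lit 3,nat_lit 4,nat_lit 3])
 (.leaf [nat_lit 14,nat_lit 1,nat_lit 1,nat_lit 0,nat_lit 6,nat_lit 0,nat_lit 6])
) (.leaf [nat_lit 18,nat_lit 2,nat_lit 1,nat_lit 4,nat_lit 1,nat_lit 4,nat_lit 1])
)) (.node (.node (.node (.leaf [nat_lit 23,nat_lit 1,nat_lit 1,nat_lit 2,nat_lit 4,nat_lit 2,nat_lit 4])
 (.leaf [nat_lit 31,nat_lit 1,nat_lit 1,nat_lit 4,nat_lit 5,nat_lit 4,nat_lit 5])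
) (.leaf [nat_lit 10,nat_lit 1,nat_lit 1,nat_lit 0,nat_lit 2,nat_lit 0,nat_lit 2])
) (.node (.node (.leaf [nat_lit 12,nat_lit 4,nat_lit 1,nat_lit 4,nat_lit 0,nat_lit 4,nat_lit 0,nat_lit 4,nat_lit 0])
 (.leaf [nat_lit 9,nat_lit 4,nat_lit 1,nat_lit 1,nat_lit 0,nat_lit 1,nat_lit 0,nat_lit 1,nat_lit 0])
) (.leaf [nat_lit 16,nat_lit 4,nat_lit 1,nat_lit 2,nat_lit 1,nat_lit 2,nat_lit 1,nat_lit 2,nat_lit 1])
))) (.node (.node (.node (.node (.leaf [nat_lit 35,nat_lit 1,nat_lit 1,nat_lit 5,nat_lit 7,nat_lit 5,nat_lit 7])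
 (.leaf [nat_lit 24,nat_lit 3,nat_lit 1,nat_lit 2,nat_lit 5,nat_lit 2,nat_lit 5,nat_lit 2,nat_lit 5])
) (.leaf [nat_lit 25,nat_lit 2,nat_lit 1,nat_lit 6,nat_lit 2,nat_lit 6,nat_lit 2])
) (.node (.node (.leaf [nat_lit 30,nat_lit 4,nat_lit 1,nat_lit 7,nat_lit 3,nat_lit 7,nat_lit 3,nat_lit 7,nat_lit 3])
 (.leaf [nat_lit 34,nat_lit 1,nat_lit 1,nat_lit 5,nat_lit 6,nat_lit 5,nat_lit 6])
) (.leaf [nat_lit 17,nat_lit 2,nat_lit 1,nat_lit 3,nat_lit 1,nat_lit 3,nat_lit 1])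
)) (.node (.node (.node (.leaf [nat_lit 17,nat_lit 1,nat_lit 1,nat_lit 1,nat_lit 3,nat_lit 1,nat_lit 3])
 (.leaf [nat_lit 36,nat_lit 3,nat_lit 1,nat_lit 6,nat_lit 7,nat_lit 6,nat_lit 7,nat_lit 6,nat_lit 7])
) (.leaf [nat_lit 29,nat_lit 1,nat_lit 1,nat_lit 3,nat_lit 6,nat_lit 3,nat_lit 6])
) (.node (.node (.leaf [nat_lit 11,nat_lit 2,nat_lit 1,nat_lit 3,nat_lit 0,nat_lit 3,nat_lit 0])
 (.leaf [nat_lit 33,nat_lit 1,nat_lit 1,nat_lit 4,nat_lit 7,nat_lit 4,nat_lit 7,nat_lit 4,nat_lit 7])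
) (.leaf [nat_lit 21,nat_lit 2,nat_lit 1,nat_lit 7,nat_lit 1,nat_lit 7,nat_lit 1])
)))))

noncomputable def m693_subs : LT :=
(.leaf [nat_lit 4,nat_lit 1,nat_lit 0,nat_lit 6,nat_lit 7,nat_lit 4,nat_lit 3,nat_lit 7,nat_lit 7,nat_lit 4,nat_lit 3,nat_lit 7])


noncomputable def m693 : TC :=
  ⟨fun x c => Nat.shiftRight (BT.get m693_t x) (Nat.mul (nat_lit 27) c),
  (nat_lit 6), (nat_lit 63), (nat_lit 262143), (nat_lit 18), (nat_lit 511), (nat_lit 262080), (nat_lit 1), (nat_lit 60), (nat_lit 8), (nat_lit 7), (nat_lit 8), (nat_lit 9), m693_inv, m693_rules, m693_subs⟩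

theorem m693_c1 : m693.rules.all (ruleOK m693.m m693.inv m693_rels) = true := by decide +kernel
theorem m693_c2 : m693.subs.all (subOK m693.m m693.inv m693_hws) = true := by decide +kernel
theorem m693_c3 : m693.base = true := by decide +kernel

theorem m693_s0 : band (m693.slotsP (nat_lit 0) (nat_lit 60)) (allRange (nat_lit 0) (nat_lit 60) m693.slotEP) = true := by decide +kernel

theorem m693_c4 : m693.UptoP m693.N := ((TC.uptoP_zero m693).step _ m693_s0)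
theorem m693_mem0 {G : Type*} [Group G] {g : ℕ → G} {H : Subgroup G} (hinv : ∀ x < 8, g x * g (m693_inv x) = 1)
    (hrels : ∀ i, evalW g (m693_rels.get i) = 1) (hH : ∀ x < 7, g x ∈ H) (hhws : ∀ i, evalW g (m693_hws.get i) ∈ H) :
    evalW g [6, 7, 6, 3, 7, 6, 2, 3, 7, 6, 5, 2, 3, 7, 6, 6, 7, 6, 4, 7, 6, 0, 4, 7, 6, 1, 0, 4, 7, 6, 2, 1, 0, 4, 7, 6, 5, 2, 1, 0, 4, 7, 6] ∈ H :=
  TC.mem (T := m693) hinv hrels hH hhws m693_c1 m693_c2 m693_c3 m693_c4 (by decide +kernel)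

end Cfsg.Agent.Spor.Y5
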